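import Groth.Agent.L11.EssQuot.Point
import Groth.Prelude.Def_AlgSt5
import Groth.Prelude.Def_SGA7a

/-!
# Descent of equivariant maps out of a torsor to the intersection field
-/

set_option autoImplicit false
set_option linter.style.haveILetI false
set_option linter.unusedSectionVars false
set_option backward.isDefEq.respectTransparency false
set_option backward.isDefEq.respectTransparency.types false

noncomputable section

universe u

open CategoryTheory CategoryTheory.Limits MonoidalCategory CartesianMonoidalCategory MonObj AlgebraicGeometry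
open scoped TensorProduct

namespace Groth.L11.EssQuot

variable {k : Type u} [Field k]

/-- The spectrum of an algebra over the ground field. -/
abbrev rpt (k : Type u) [Field k] (R : Type u) [CommRing R] [Algebra k R] : Over (Spec (CommRingCat.of k)) :=
  Over.mk (Spec.map (CommRingCat.ofHom (algebraMap k R)))

/-- The morphism of spectra of a homomorphism of algebras. -/
def rmap {R R' : Type u} [CommRing R] [Algebra k R] [CommRing R'] [Algebra k R'] (φ : R →ₐ[k] R') :
    rpt k R' ⟶ rpt k R :=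
  Over.homMk (Spec.map (CommRingCat.ofHom (φ : R →+* R'))) (by
    change Spec.map _ ≫ Spec.map _ = Spec.map _
    rw [← Spec.map_comp, ← CommRingCat.ofHom_comp, φ.comp_algebraMap])

theorem rmap_left {R R' : Type u} [CommRing R] [Algebra k R] [CommRing R'] [Algebra k R'] (φ : R →ₐ[k] R') :
    (rmap φ).left = Spec.map (CommRingCat.ofHom (φ : R →+* R')) := rfl

theorem rmap_comp {R R' R'' : Type u} [CommRing R] [Algebra k R] [CommRing R'] [Algebra k R'] [CommRing R'']
    [Algebra k R''] (φ : R →ₐ[k] R') (ψ : R' →ₐ[k] R'') : rmap ψ ≫ rmap φ = rmap (ψ.comp φ) := by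
  apply Over.OverMorphism.ext
  show Spec.map _ ≫ Spec.map _ = Spec.map _
  rw [← Spec.map_comp, ← CommRingCat.ofHom_comp]
  rfl

theorem rmap_congr {R R' : Type u} [CommRing R] [Algebra k R] [CommRing R'] [Algebra k R'] {φ ψ : R →ₐ[k] R'}
    (h : ∀ x, φ x = ψ x) : rmap φ = rmap ψ := by rw [AlgHom.ext h]

/-- `rmap` of the structure map of a tower. -/
abbrev res (K L : Type u) [Field K] [Algebra k K] [CommRing L] [Algebra k L] [Algebra K L] [IsScalarTower k K L] :
    rpt k L ⟶ rpt k K :=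
  rmap (IsScalarTower.toAlgHom k K L)

variable {K : Type u} [Field K] [Algebra k K]

/-- The spectrum of a tensor product is the fibre product. -/
theorem isPullback_tensor (A B : Type u) [Field A] [Field B] [Algebra k A] [Algebra k B] [Algebra K A] [Algebra K B]
    [IsScalarTower k K A] [IsScalarTower k K B] :
    IsPullback (rmap ((Algebra.TensorProduct.includeLeft : A →ₐ[k] A ⊗[K] B)))
      (rmap ((Algebra.TensorProduct.includeRight : B →ₐ[K] A ⊗[K] B).restrictScalars k))
      (res K A) (res K B) := by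
  refine IsPullback.of_map (Over.forget _) (Over.OverMorphism.ext ?_) ?_
  · exact (isPullback_SpecMap_of_isPushout _ _ _ _ (CommRingCat.isPushout_tensorProduct K A B)).w
  · exact isPullback_SpecMap_of_isPushout _ _ _ _ (CommRingCat.isPushout_tensorProduct K A B)

theorem good_res (L : Type u) [Field L] [Algebra k L] [Algebra K L] [IsScalarTower k K L] :
    Flat (res (k := k) K L).left ∧ Surjective (res (k := k) K L).left ∧ QuasiCompact (res (k := k) K L).left := by
  show Flat (Spec.map (CommRingCat.ofHom (algebraMap K L))) ∧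
    Surjective (Spec.map (CommRingCat.ofHom (algebraMap K L))) ∧
    QuasiCompact (Spec.map (CommRingCat.ofHom (algebraMap K L)))
  refine ⟨?_, ⟨fun x => ⟨Classical.arbitrary (PrimeSpectrum L), Subsingleton.elim (α := PrimeSpectrum K) _ _⟩⟩,
    inferInstance⟩
  rw [Flat.SpecMap_iff]
  exact (RingHom.flat_algebraMap_iff (R := K) (S := L)).2 inferInstance

/-- The property of being a good covering. -/
def Good {Y Z : Over (Spec (CommRingCat.of k))} (f : Y ⟶ Z) : Prop :=
  Flat f.left ∧ Surjective f.left ∧ QuasiCompact f.left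

theorem good_of_isPullback {P Y Z W : Over (Spec (CommRingCat.of k))} {fst : P ⟶ Y} {snd : P ⟶ Z} {f : Y ⟶ W}
    {g : Z ⟶ W} (h : IsPullback fst snd f g) (hg : Good g) : Good fst := by
  have h' := (h.map (Over.forget _)).flip
  exact ⟨MorphismProperty.of_isPullback (P := @Flat) h'.flip.flip hg.1,
    MorphismProperty.of_isPullback (P := @Surjective) h'.flip.flip hg.2.1,
    MorphismProperty.of_isPullback (P := @QuasiCompact) h'.flip.flip hg.2.2⟩

theorem Good.cancel {Y Z W : Over (Spec (CommRingCat.of k))} {f : Y ⟶ Z} (hf : Good f) {a b : Z ⟶ W}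
    (h : f ≫ a = f ≫ b) : a = b := by
  haveI := hf.1; haveI := hf.2.1; haveI := hf.2.2
  exact Over.OverMorphism.ext ((cancel_epi f.left).1 (congrArg (fun m => m.left) h))

variable {G X : Over (Spec (CommRingCat.of k))} [GrpObj G] (aX : AlgGrp.Action G X)

/-- The orbit square of a point of a torsor. -/
theorem isPullback_orbit {P T B : Over (Spec (CommRingCat.of k))} {act : AlgGrp.Action G P} {π : P ⟶ B}
    (cart : IsPullback act.act (snd G P) π π) (p : T ⟶ P) :
    IsPullback ((G ◁ p) ≫ act.act) (snd G T) π (p ≫ π) :=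
  (AlgSt.isPullback_whiskerLeft p).paste_horiz cart

variable {L M Ω : Type u} [Field L] [Field M] [Field Ω] [Algebra k L] [Algebra k M] [Algebra k Ω]
  [Algebra K L] [Algebra K M] [Algebra K Ω] [Algebra L Ω] [Algebra M Ω]
  [IsScalarTower k K L] [IsScalarTower k K M] [IsScalarTower k K Ω] [IsScalarTower k L Ω] [IsScalarTower k M Ω]
  [IsScalarTower K L Ω] [IsScalarTower K M Ω] [IsAlgClosed M]

/-- An equivariant map out of a torsor which is defined over two fields is defined over their intersection. -/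
theorem exists_equivariant_descend
    (hint : ∀ (l : L) (m : M), algebraMap L Ω l = algebraMap M Ω m → ∃ c : K, algebraMap K L c = l)
    {P₁ : Over (Spec (CommRingCat.of k))} {act₁ : AlgGrp.Action G P₁} {π₁ : P₁ ⟶ rpt k K}
    (cart₁ : IsPullback act₁.act (snd G P₁) π₁ π₁)
    {E : Type u} [Field E] [Algebra k E] [Algebra K E] [IsScalarTower k K E] [FiniteDimensional K E]
    (r : rpt k E ⟶ P₁) (hr : r ≫ π₁ = res K E)
    {P : Over (Spec (CommRingCat.of k))} {act : AlgGrp.Action G P} {π : P ⟶ rpt k L} {top : P ⟶ P₁}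
    (sq : IsPullback top π π₁ (res K L)) (eqv : act.act ≫ top = (G ◁ top) ≫ act₁.act)
    (hπ : act.act ≫ π = snd G P ≫ π)
    (φ : P ⟶ X) (hφ : act.act ≫ φ = (G ◁ φ) ≫ aX.act)
    (p : rpt k M ⟶ P₁) (hp : p ≫ π₁ = res K M) (pΩ : rpt k Ω ⟶ P) (hpΩ : pΩ ≫ top = res M Ω ≫ p)
    (hpΩ' : pΩ ≫ π = res L Ω) (x : rpt k M ⟶ X) (hx : pΩ ≫ φ = res M Ω ≫ x) :
    ∃ φ₁ : P₁ ⟶ X, top ≫ φ₁ = φ ∧ act₁.act ≫ φ₁ = (G ◁ φ₁) ≫ aX.act := by
  let inLL : rpt k (L ⊗[K] E) ⟶ rpt k L := rmap (Algebra.TensorProduct.includeLeft : L →ₐ[k] L ⊗[K] E)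
  let inLE : rpt k (L ⊗[K] E) ⟶ rpt k E :=
    rmap ((Algebra.TensorProduct.includeRight : E →ₐ[K] L ⊗[K] E).restrictScalars k)
  let inMM : rpt k (M ⊗[K] E) ⟶ rpt k M := rmap (Algebra.TensorProduct.includeLeft : M →ₐ[k] M ⊗[K] E)
  let inME : rpt k (M ⊗[K] E) ⟶ rpt k E :=
    rmap ((Algebra.TensorProduct.includeRight : E →ₐ[K] M ⊗[K] E).restrictScalars k)
  let oL : rpt k (Ω ⊗[K] E) ⟶ rpt k (L ⊗[K] E) := rmap ((scal L Ω E).restrictScalars k)
  let oM : rpt k (Ω ⊗[K] E) ⟶ rpt k (M ⊗[K] E) := rmap ((scal M Ω E).restrictScalars k)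
  let o : rpt k (Ω ⊗[K] E) ⟶ rpt k Ω := rmap (Algebra.TensorProduct.includeLeft : Ω →ₐ[k] Ω ⊗[K] E)
  have hLL : oL ≫ inLL = o ≫ res L Ω := by
    rw [rmap_comp, rmap_comp]; exact rmap_congr fun c => by
      show scal L Ω E (c ⊗ₜ[K] (1 : E)) = algebraMap L Ω c ⊗ₜ[K] (1 : E)
      rfl
  have hMM : oM ≫ inMM = o ≫ res M Ω := by
    rw [rmap_comp, rmap_comp]; exact rmap_congr fun c => by
      show scal M Ω E (c ⊗ₜ[K] (1 : E)) = algebraMap M Ω c ⊗ₜ[K] (1 : E)
      rfl
  have hLE : oL ≫ inLE = oM ≫ inME := by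
    rw [rmap_comp, rmap_comp]
    refine rmap_congr fun c => ?_
    show scal L Ω E ((1 : L) ⊗ₜ[K] c) = scal M Ω E ((1 : M) ⊗ₜ[K] c)
    simp [scal]
  -- the point of `P` over `L ⊗ E`
  let rL : rpt k (L ⊗[K] E) ⟶ P := sq.lift (inLE ≫ r) inLL (by
    rw [Category.assoc, hr]; exact (isPullback_tensor (K := K) L E).w.symm)
  -- the point of `G ⊗ Spec M` over `M ⊗ E`
  have sqM := isPullback_orbit cart₁ p
  let rM : rpt k (M ⊗[K] E) ⟶ G ⊗ rpt k M := sqM.lift (inME ≫ r) inMM (by
    rw [Category.assoc, hr, hp]; exact (isPullback_tensor (K := K) M E).w.symm)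
  let g : rpt k (M ⊗[K] E) ⟶ X := rM ≫ (G ◁ x) ≫ aX.act
  have hfg : oL ≫ rL ≫ φ = oM ≫ g := by
    let w : rpt k (Ω ⊗[K] E) ⟶ G ⊗ rpt k Ω := lift (oM ≫ rM ≫ fst _ _) o
    have hw : w ≫ (G ◁ res M Ω) = oM ≫ rM := by
      apply CartesianMonoidalCategory.hom_ext
      · simp only [w, Category.assoc, whiskerLeft_fst, lift_fst]
      · simp only [w, Category.assoc, whiskerLeft_snd, lift_snd_assoc]
        rw [show rM ≫ snd _ _ = inMM from sqM.lift_snd _ _ _, hMM]
    have h1 : oL ≫ rL = w ≫ (G ◁ pΩ) ≫ act.act := by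
      apply sq.hom_ext
      · rw [Category.assoc, sq.lift_fst, Category.assoc, Category.assoc, eqv, ← MonoidalCategory.whiskerLeft_comp_assoc,
          hpΩ, MonoidalCategory.whiskerLeft_comp_assoc, reassoc_of% hw, sqM.lift_fst, reassoc_of% hLE]
      · rw [Category.assoc, sq.lift_snd, Category.assoc, Category.assoc, hπ, whiskerLeft_snd_assoc, hpΩ', hLL]
        simp only [w, lift_snd_assoc]
    rw [reassoc_of% h1, hφ, ← MonoidalCategory.whiskerLeft_comp_assoc, hx, MonoidalCategory.whiskerLeft_comp_assoc,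
      reassoc_of% hw]
  obtain ⟨h₀, hh₀⟩ := exists_descend hint E (rL ≫ φ).left g.left (congrArg (fun m => m.left) hfg)
  have hgE : Good inLE := good_of_isPullback (isPullback_tensor (K := K) L E).flip (good_res L)
  let h : rpt k E ⟶ X := Over.homMk h₀ (by
    haveI := hgE.1; haveI := hgE.2.1; haveI := hgE.2.2
    refine (cancel_epi inLE.left).1 ?_
    show inLE.left ≫ h₀ ≫ X.hom = inLE.left ≫ (rpt k E).hom
    rw [Over.w inLE, ← Over.w (rL ≫ φ), ← Category.assoc]
    exact congrArg (· ≫ X.hom) hh₀)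
  have hh : inLE ≫ h = rL ≫ φ := Over.OverMorphism.ext hh₀
  -- the covering of `P₁` by `G ⊗ Spec E`
  have sqE := isPullback_orbit cart₁ r
  let q : G ⊗ rpt k E ⟶ P₁ := (G ◁ r) ≫ act₁.act
  have hq : Good q := good_of_isPullback sqE (by rw [hr]; exact good_res E)
  have key : ∀ {Z : Over (Spec (CommRingCat.of k))} (z : Z ⟶ P) (w : Z ⟶ G ⊗ rpt k E), z ≫ top = w ≫ q →
      z ≫ φ = w ≫ (G ◁ h) ≫ aX.act := by
    intro Z z w hzw
    let z₂ : Z ⟶ rpt k (L ⊗[K] E) := (isPullback_tensor (K := K) L E).lift (z ≫ π) (w ≫ snd _ _) (by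
      rw [Category.assoc, ← sq.w, reassoc_of% hzw, Category.assoc, ← hr]
      exact (congrArg (w ≫ ·) ((Category.assoc _ _ _).symm.trans sqE.w)).trans (Category.assoc _ _ _).symm)
    let z' : Z ⟶ G ⊗ rpt k (L ⊗[K] E) := lift (w ≫ fst _ _) z₂
    have h2 : z' ≫ (G ◁ inLE) = w := by
      apply CartesianMonoidalCategory.hom_ext
      · simp only [z', Category.assoc, whiskerLeft_fst, lift_fst]
      · simp only [z', Category.assoc, whiskerLeft_snd, lift_snd_assoc]
        exact (isPullback_tensor (K := K) L E).lift_snd _ _ _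
    have hz : z = z' ≫ (G ◁ rL) ≫ act.act := by
      apply sq.hom_ext
      · rw [hzw, Category.assoc, Category.assoc, eqv, ← MonoidalCategory.whiskerLeft_comp_assoc, sq.lift_fst,
          MonoidalCategory.whiskerLeft_comp_assoc, reassoc_of% h2]
      · rw [Category.assoc, Category.assoc, hπ, whiskerLeft_snd_assoc, sq.lift_snd]
        simp only [z', lift_snd_assoc]
        exact ((isPullback_tensor (K := K) L E).lift_fst _ _ _).symm
    rw [hz, Category.assoc, Category.assoc, hφ, ← MonoidalCategory.whiskerLeft_comp_assoc, ← hh,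
      MonoidalCategory.whiskerLeft_comp_assoc, reassoc_of% h2]
  -- descent along `top`
  have htop : Good top := good_of_isPullback sq (good_res L)
  have hcompat : ∀ {Z : Scheme.{u}} (g₁ g₂ : Z ⟶ P.left), g₁ ≫ top.left = g₂ ≫ top.left →
      g₁ ≫ φ.left = g₂ ≫ φ.left := by
    intro Z g₁ g₂ hg
    let T : Over (Spec (CommRingCat.of k)) := Over.mk (g₁ ≫ P.hom)
    let a₁ : T ⟶ P := Over.homMk g₁ rfl
    let a₂ : T ⟶ P := Over.homMk g₂ (by
      show g₂ ≫ P.hom = g₁ ≫ P.hom
      rw [← Over.w top, ← Category.assoc, ← hg, Category.assoc])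
    have ha : a₁ ≫ top = a₂ ≫ top := Over.OverMorphism.ext hg
    have hpb := IsPullback.of_hasPullback (a₁ ≫ top) q
    have hc : Good (pullback.fst (a₁ ≫ top) q) := good_of_isPullback hpb hq
    have h3 : a₁ ≫ φ = a₂ ≫ φ := hc.cancel (by
      rw [← Category.assoc, ← Category.assoc, key _ (pullback.snd _ _) (by rw [Category.assoc]; exact hpb.w),
        key _ (pullback.snd _ _) (by rw [Category.assoc, ← ha]; exact hpb.w)])
    exact congrArg (fun m => m.left) h3
  haveI := htop.1; haveI := htop.2.1; haveI := htop.2.2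
  let φ₁ : P₁ ⟶ X := Over.homMk (EffectiveEpi.desc top.left φ.left hcompat) (by
    refine (cancel_epi top.left).1 ?_
    rw [← Category.assoc, EffectiveEpi.fac, Over.w φ, Over.w top])
  have hφ₁ : top ≫ φ₁ = φ := Over.OverMorphism.ext (EffectiveEpi.fac top.left φ.left hcompat)
  refine ⟨φ₁, hφ₁, ?_⟩
  have hG : Good (G ◁ top) := good_of_isPullback (AlgSt.isPullback_whiskerLeft top) htop
  refine hG.cancel ?_
  rw [← reassoc_of% eqv, hφ₁, hφ, ← MonoidalCategory.whiskerLeft_comp_assoc, hφ₁]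

end Groth.L11.EssQuot
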