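import Mathlib.RingTheory.Discriminant
import Mathlib.FieldTheory.PurelyInseparable.Basic
import Mathlib.RingTheory.Spectrum.Prime.Topology
import Mathlib.RingTheory.TensorProduct.Free
import Mathlib.RingTheory.Artinian.Module
import Mathlib.RingTheory.Spectrum.Prime.Noetherian
import Mathlib.RingTheory.RingHom.Flat

/-!
# Tensor products over a field that is the intersection of two larger ones
-/

set_option autoImplicit false
set_option linter.style.haveILetI false
set_option linter.unusedSectionVars false

noncomputable section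

universe u

open scoped TensorProduct

namespace Groth.L11.EssQuot

variable {K L M Ω : Type u} [Field K] [Field L] [Field M] [Field Ω] [Algebra K L] [Algebra K M] [Algebra K Ω]
  [Algebra L Ω] [Algebra M Ω] [IsScalarTower K L Ω] [IsScalarTower K M Ω]
  (hint : ∀ (l : L) (m : M), algebraMap L Ω l = algebraMap M Ω m → ∃ c : K, algebraMap K L c = l)
  (E : Type u) [Field E] [Algebra K E]

variable (L Ω) in
/-- Extension of the scalars of the left factor. -/
def scal : L ⊗[K] E →ₐ[K] Ω ⊗[K] E := Algebra.TensorProduct.map (IsScalarTower.toAlgHom K L Ω) (AlgHom.id K E)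

theorem repr_scal {ι : Type u} (b : Module.Basis ι K E) (z : L ⊗[K] E) (i : ι) :
    (Algebra.TensorProduct.basis Ω b).repr (scal L Ω E z) i =
      algebraMap L Ω ((Algebra.TensorProduct.basis L b).repr z i) := by
  induction z using TensorProduct.induction_on with
  | zero => simp
  | add x y hx hy => simp [hx, hy]
  | tmul c e =>
    simp only [scal, Algebra.TensorProduct.map_tmul, AlgHom.id_apply, Algebra.TensorProduct.basis_repr_tmul,
      Finsupp.smul_apply, Finsupp.mapRange_apply, smul_eq_mul, map_mul, IsScalarTower.coe_toAlgHom',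
      ← IsScalarTower.algebraMap_apply]

theorem scal_injective : Function.Injective (scal (K := K) L Ω E) := by
  intro z z' h
  refine (Algebra.TensorProduct.basis L (Module.Free.chooseBasis K E)).ext_elem fun i => ?_
  refine (algebraMap L Ω).injective ?_
  rw [← repr_scal E, ← repr_scal E, h]

include hint in
/-- An element defined over both fields is defined over the intersection. -/
theorem exists_eq_one_tmul (a : L ⊗[K] E) (b : M ⊗[K] E) (h : scal L Ω E a = scal M Ω E b) :
    ∃ e : E, a = 1 ⊗ₜ[K] e := by
  let B := Module.Free.chooseBasis K E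
  have key : ∀ i, ∃ c : K, algebraMap K L c = (Algebra.TensorProduct.basis L B).repr a i := fun i =>
    hint _ ((Algebra.TensorProduct.basis M B).repr b i) (by rw [← repr_scal E, ← repr_scal E, h])
  choose c hc using key
  have hfin : (Function.support c).Finite := by
    refine ((Algebra.TensorProduct.basis L B).repr a).hasFiniteSupport.subset fun i hi => ?_
    rw [Function.mem_support, ← hc]
    exact fun h0 => hi ((algebraMap K L).injective (h0.trans (map_zero _).symm))
  refine ⟨B.repr.symm (Finsupp.ofSupportFinite c hfin), (Algebra.TensorProduct.basis L B).ext_elem fun i => ?_⟩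
  rw [Algebra.TensorProduct.basis_repr_tmul, one_smul, Finsupp.mapRange_apply, LinearEquiv.apply_symm_apply]
  exact (hc i).symm

variable [IsAlgClosed M] [FiniteDimensional K E]

include hint in
theorem idempotent_separable [Algebra.IsSeparable K E] (e : L ⊗[K] E) (he : IsIdempotentElem e) :
    ∃ x : E, e = 1 ⊗ₜ[K] x := by
  classical
  let b := Module.finBasis K E
  let B := Algebra.TensorProduct.basis L b
  have hcard : Fintype.card (Fin (Module.finrank K E)) = Fintype.card (E →ₐ[K] M) := by
    rw [Fintype.card_fin, AlgHom.card]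
  let σ := Fintype.equivOfCardEq hcard
  let N := Algebra.embeddingsMatrixReindex K M b σ
  have hN : IsUnit N.det := by
    refine IsUnit.mk0 _ fun h0 => Algebra.discr_not_zero_of_basis K b ((algebraMap K M).injective ?_)
    rw [Algebra.discr_eq_det_embeddingsMatrixReindex_pow_two K M b σ]
    show N.det ^ 2 = _
    rw [h0, map_zero, zero_pow two_ne_zero]
  let c : Fin (Module.finrank K E) → Ω := fun i => algebraMap L Ω (B.repr e i)
  have hv : ∀ j, ∃ v : M, algebraMap M Ω v = Matrix.vecMul c (N.map (algebraMap M Ω)) j := by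
    intro j
    let ev : L ⊗[K] E →ₐ[K] Ω := Algebra.TensorProduct.lift (IsScalarTower.toAlgHom K L Ω)
      ((IsScalarTower.toAlgHom K M Ω).comp (σ j)) fun _ _ => Commute.all _ _
    have hev : ev e = Matrix.vecMul c (N.map (algebraMap M Ω)) j := by
      conv_lhs => rw [← B.sum_repr e]
      rw [map_sum]
      refine Finset.sum_congr rfl fun i _ => ?_
      rw [Algebra.TensorProduct.basis_apply, TensorProduct.smul_tmul', smul_eq_mul, mul_one,
        Algebra.TensorProduct.lift_tmul]
      rfl
    rcases IsIdempotentElem.iff_eq_zero_or_one.1 (he.map ev) with h | h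
    · exact ⟨0, by rw [map_zero, ← hev, h]⟩
    · exact ⟨1, by rw [map_one, ← hev, h]⟩
  choose v hv using hv
  have hc : c = fun i => algebraMap M Ω (Matrix.vecMul v N⁻¹ i) := by
    have h1 : Matrix.vecMul (Matrix.vecMul c (N.map (algebraMap M Ω))) ((N⁻¹).map (algebraMap M Ω)) = c := by
      rw [Matrix.vecMul_vecMul, ← Matrix.map_mul, Matrix.mul_nonsing_inv N hN,
        Matrix.map_one _ (map_zero _) (map_one _), Matrix.vecMul_one]
    refine h1.symm.trans (funext fun i => ?_)
    rw [← funext hv]
    exact ((algebraMap M Ω).map_vecMul N⁻¹ v i).symm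
  have key : ∀ i, ∃ k : K, algebraMap K L k = B.repr e i := fun i => hint _ _ (congrFun hc i)
  choose k hk using key
  refine ⟨b.equivFun.symm k, B.ext_elem fun i => ?_⟩
  rw [← hk, Algebra.TensorProduct.basis_repr_tmul, one_smul, Finsupp.mapRange_apply, ← Module.Basis.equivFun_apply b,
    LinearEquiv.apply_symm_apply]

include hint in
theorem idempotent_eq (e : L ⊗[K] E) (he : IsIdempotentElem e) : e = 0 ∨ e = 1 := by
  obtain ⟨q, hq⟩ := ExpChar.exists K
  haveI : ExpChar (L ⊗[K] E) q :=
    expChar_of_injective_ringHom (f := algebraMap K (L ⊗[K] E)) (RingHom.injective _) q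
  let F := separableClosure K E
  let ι : L ⊗[K] F →ₐ[K] L ⊗[K] E := Algebra.TensorProduct.map (AlgHom.id K L) F.val
  have hι : Function.Injective ι := Module.Flat.lTensor_preserves_injective_linearMap (M := L) F.val.toLinearMap
    Subtype.val_injective
  have key : ∀ z : L ⊗[K] E, ∃ n : ℕ, z ^ q ^ n ∈ ι.range := by
    intro z
    induction z using TensorProduct.induction_on with
    | zero => exact ⟨0, by simp⟩
    | tmul c x =>
      obtain ⟨n, y, hy⟩ := IsPurelyInseparable.pow_mem F q x
      refine ⟨n, (c ^ q ^ n) ⊗ₜ[K] y, ?_⟩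
      rw [Algebra.TensorProduct.tmul_pow]
      exact congrArg ((c ^ q ^ n) ⊗ₜ[K] ·) hy
    | add x y hx hy =>
      obtain ⟨n, hn⟩ := hx
      obtain ⟨m, hm⟩ := hy
      refine ⟨n + m, ?_⟩
      rw [add_pow_expChar_pow, pow_add, pow_mul x, mul_comm (q ^ n) (q ^ m), pow_mul y]
      exact add_mem (pow_mem hn _) (pow_mem hm _)
  obtain ⟨n, e', he'⟩ := key e
  have he1 : e ^ q ^ n = e := by
    obtain ⟨m, hm⟩ : ∃ m, q ^ n = m + 1 := ⟨q ^ n - 1, (Nat.succ_pred_eq_of_pos (pow_pos (expChar_pos K q) n)).symm⟩
    rw [hm, he.pow_succ_eq]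
  change ι e' = e ^ q ^ n at he'
  rw [he1] at he'
  have hidem : IsIdempotentElem e' := hι (by rw [map_mul, he']; exact he)
  obtain ⟨x, hx⟩ := idempotent_separable hint F e' hidem
  have hx' : e = Algebra.TensorProduct.includeRight (R := K) (A := L) ((x : E)) := by
    rw [← he', hx]; rfl
  have hinj : Function.Injective (Algebra.TensorProduct.includeRight (R := K) (A := L) (B := E)) := RingHom.injective
    (Algebra.TensorProduct.includeRight (R := K) (A := L) (B := E)).toRingHom
  have hidx : IsIdempotentElem (x : E) := hinj (by rw [map_mul, ← hx']; exact he)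
  rcases IsIdempotentElem.iff_eq_zero_or_one.1 hidx with h | h
  · exact Or.inl (by rw [hx', h, map_zero])
  · exact Or.inr (by rw [hx', h, map_one])

include hint in
theorem subsingleton_primeSpectrum : Subsingleton (PrimeSpectrum (L ⊗[K] E)) := by
  haveI : Module.Finite L (L ⊗[K] E) := inferInstance
  haveI : IsArtinianRing (L ⊗[K] E) := IsArtinianRing.of_finite L _
  refine ⟨fun p p' => by_contra fun hne => ?_⟩
  obtain ⟨e, he, hs⟩ := PrimeSpectrum.exists_idempotent_basicOpen_eq_of_isClopen (isClopen_discrete ({p} : Set _))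
  rcases idempotent_eq hint E e he with rfl | rfl
  · have h1 : p ∈ (PrimeSpectrum.basicOpen (0 : L ⊗[K] E) : Set (PrimeSpectrum (L ⊗[K] E))) :=
      hs ▸ Set.mem_singleton p
    simp at h1
  · have h1 : p' ∈ ({p} : Set (PrimeSpectrum (L ⊗[K] E))) := hs.ge (by simp)
    exact hne h1.symm

omit [IsAlgClosed M] in
theorem comap_scal_surjective : Function.Surjective (PrimeSpectrum.comap (scal (K := K) M Ω E).toRingHom) := by
  haveI : Module.Finite M (M ⊗[K] E) := inferInstance
  haveI : IsArtinianRing (M ⊗[K] E) := IsArtinianRing.of_finite M _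
  have h : DenseRange (PrimeSpectrum.comap (scal (K := K) M Ω E).toRingHom) := by
    rw [PrimeSpectrum.denseRange_comap_iff_ker_le_nilRadical]
    rw [(RingHom.injective_iff_ker_eq_bot (scal (K := K) M Ω E).toRingHom).1 (scal_injective E)]
    exact bot_le
  exact Set.range_eq_univ.1 ((closure_discrete _).symm.trans h.closure_range)

end Groth.L11.EssQuot
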