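import Groth.Agent.L11.EssQuot.Desc
import Groth.Agent.L22.SchemeDim
import Groth.Agent.L22.FibreDim
import Groth.Prelude.Def_EssDim
import Mathlib.FieldTheory.IsAlgClosed.AlgebraicClosure
import Mathlib.RingTheory.AlgebraicIndependent.TranscendenceBasis
import Mathlib.RingTheory.Nullstellensatz
import Mathlib.RingTheory.Jacobson.Ring

/-!
# The essential dimension of a quotient stack
-/

set_option autoImplicit false
set_option linter.style.haveILetI false
set_option linter.unusedSectionVars false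
set_option backward.isDefEq.respectTransparency false
set_option backward.isDefEq.respectTransparency.types false

noncomputable section

universe u

open CategoryTheory CategoryTheory.Limits MonoidalCategory CartesianMonoidalCategory MonObj AlgebraicGeometry Opposite

namespace Groth.L11.EssQuot

variable {k : Type u} [Field k]

/-- A locally trivial family over a field has a point over a finite extension. -/
theorem exists_finite_point {K : Type u} [Field K] [Algebra k K] {P : Over (Spec (CommRingCat.of k))}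
    (π : P ⟶ rpt k K)
    (loc : NonAbH1.IsLocallyTrivialFor Scheme.fppfPrecoverage (Over.mk π.left : Over (rpt k K).left)) :
    ∃ (E : Type u) (_ : Field E) (_ : Algebra k E) (_ : Algebra K E) (_ : IsScalarTower k K E),
      FiniteDimensional K E ∧ ∃ r : rpt k E ⟶ P, r ≫ π = res K E := by
  obtain ⟨R, hR, hsec⟩ := loc
  obtain ⟨_, _, ⟨hu⟩, t, -⟩ := hR.1 (Classical.arbitrary (PrimeSpectrum K) : (rpt k K).left)
  rename_i T g
  obtain ⟨hflat, hlfp⟩ := hR.2 hu
  haveI := hlfp
  obtain ⟨s, hs⟩ := hsec g hu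
  obtain ⟨W, hW, htW, -⟩ := exists_isAffineOpen_mem_and_subset (x := t) (U := (⊤ : T.Opens)) trivial
  let a : K →+* Γ(T, W) := (Spec.preimage (hW.fromSpec ≫ g)).hom
  have ha : Spec.map (CommRingCat.ofHom a) = hW.fromSpec ≫ g := Spec.map_preimage _
  letI := a.toAlgebra
  haveI : LocallyOfFiniteType (Spec.map (CommRingCat.ofHom a)) := by
    rw [ha]
    haveI : LocallyOfFiniteType g := inferInstance
    infer_instance
  haveI : Algebra.FiniteType K Γ(T, W) :=
    RingHom.finiteType_algebraMap.1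
      ((HasRingHomProperty.Spec_iff (P := @LocallyOfFiniteType) (φ := CommRingCat.ofHom a)).1 inferInstance)
  haveI : Nontrivial Γ(T, W) := by
    haveI : Nonempty (Spec Γ(T, W)) := ⟨hW.primeIdealOf ⟨t, htW⟩⟩
    exact (PrimeSpectrum.nonempty_iff_nontrivial (R := Γ(T, W))).1 this
  obtain ⟨m, hm⟩ := Ideal.exists_maximal Γ(T, W)
  let E : Type u := Γ(T, W) ⧸ m
  letI : Field E := Ideal.Quotient.field m
  letI : Algebra k E := ((algebraMap K E).comp (algebraMap k K)).toAlgebra
  haveI : IsScalarTower k K E := IsScalarTower.of_algebraMap_eq' rfl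
  haveI : Algebra.FiniteType K E :=
    Algebra.FiniteType.of_surjective (Ideal.Quotient.mkₐ K m) (Ideal.Quotient.mkₐ_surjective K m)
  refine ⟨E, inferInstance, inferInstance, inferInstance, inferInstance,
    finite_of_finite_type_of_isJacobsonRing K E, ?_⟩
  let r₀ : Spec (CommRingCat.of E) ⟶ P.left :=
    Spec.map (CommRingCat.ofHom (Ideal.Quotient.mk m)) ≫ hW.fromSpec ≫ s
  have hr₀ : r₀ ≫ π.left = (res (k := k) K E).left := by
    show (Spec.map _ ≫ hW.fromSpec ≫ s) ≫ π.left = _
    rw [Category.assoc, Category.assoc, show s ≫ π.left = g from hs, ← ha, ← Spec.map_comp]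
    rfl
  refine ⟨Over.homMk r₀ ?_, Over.OverMorphism.ext hr₀⟩
  show r₀ ≫ P.hom = _
  rw [← Over.w π, ← Category.assoc, hr₀, Over.w]

theorem mem_of_isIntegral {Ω : Type u} [Field Ω] [Algebra k Ω] (M : IntermediateField k Ω) [IsAlgClosed M] {y : Ω}
    (hy : IsIntegral M y) : y ∈ M := by
  have hd := IsAlgClosed.degree_eq_one_of_irreducible M (minpoly.irreducible hy)
  obtain ⟨z, hz⟩ := minpoly.mem_range_of_degree_eq_one M y hd
  exact hz ▸ z.2

theorem range_subset_of_basis {F Ω : Type u} [Field F] [Algebra k F] [Field Ω] [Algebra k Ω] (j : F →ₐ[k] Ω)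
    (M : IntermediateField k Ω) [IsAlgClosed M] {b : Set F} (hb : IsTranscendenceBasis k ((↑) : b → F))
    (hbM : j '' b ⊆ M) (y : F) : j y ∈ M := by
  let N : IntermediateField k F := M.comap j
  have hle : Algebra.adjoin k (Set.range ((↑) : b → F)) ≤ N.toSubalgebra := by
    refine Algebra.adjoin_le ?_
    rintro _ ⟨⟨z, hz⟩, rfl⟩
    exact hbM ⟨z, hz, rfl⟩
  let φ : N →+* M := (j.toRingHom.comp N.val.toRingHom).codRestrict M (fun z => z.2)
  letI : Algebra (Algebra.adjoin k (Set.range ((↑) : b → F))) N := (Subalgebra.inclusion hle).toRingHom.toAlgebra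
  haveI : IsScalarTower (Algebra.adjoin k (Set.range ((↑) : b → F))) N F := IsScalarTower.of_algebraMap_eq fun _ => rfl
  have hyN : IsAlgebraic N y :=
    IsAlgebraic.extendScalars (R := ↥(Algebra.adjoin k (Set.range ((↑) : b → F)))) (S := N)
      (fun a a' h => Subtype.ext (congrArg Subtype.val h :)) (hb.isAlgebraic.isAlgebraic y)
  refine mem_of_isIntegral M ?_
  obtain ⟨q, hq, hqy⟩ := hyN.isIntegral
  refine ⟨q.map φ, hq.map φ, ?_⟩
  rw [Polynomial.eval₂_map]
  have := congrArg j.toRingHom hqy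
  rw [Polynomial.hom_eval₂, map_zero] at this
  exact this

/-- An algebraically closed field containing two given ones, of small transcendence degree. -/
theorem exists_algClosed {F F' Ω : Type u} [Field F] [Field F'] [Field Ω] [Algebra k F] [Algebra k F']
    [Algebra k Ω] [IsAlgClosed Ω] (j : F →ₐ[k] Ω) (j' : F' →ₐ[k] Ω) :
    ∃ M : IntermediateField k Ω, IsAlgClosed M ∧ (∀ y, j y ∈ M) ∧ (∀ y, j' y ∈ M) ∧
      Algebra.trdeg k M ≤ Algebra.trdeg k F + Algebra.trdeg k F' := by
  obtain ⟨b, hb⟩ := exists_isTranscendenceBasis k F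
  obtain ⟨b', hb'⟩ := exists_isTranscendenceBasis k F'
  let s : Set Ω := j '' b ∪ j' '' b'
  let N : IntermediateField k Ω := IntermediateField.adjoin k s
  let M : IntermediateField k Ω := (algebraicClosure N Ω).restrictScalars k
  haveI hM : IsAlgClosed M := (inferInstance : IsAlgClosure N (algebraicClosure N Ω)).isAlgClosed
  have hsM : s ⊆ M := fun y hy => by
    show y ∈ algebraicClosure N Ω
    exact (algebraicClosure N Ω).algebraMap_mem ⟨y, IntermediateField.subset_adjoin k s hy⟩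
  refine ⟨M, hM, range_subset_of_basis j M hb (Set.subset_union_left.trans hsM),
    range_subset_of_basis j' M hb' (Set.subset_union_right.trans hsM), ?_⟩
  have h1 : Algebra.trdeg k M = Algebra.trdeg k N := by
    haveI : IsScalarTower k N (algebraicClosure N Ω) := inferInstance
    show Algebra.trdeg k (algebraicClosure N Ω) = _
    rw [← trdeg_add_eq k N (A := algebraicClosure N Ω), trdeg_eq_zero (R := N) (A := algebraicClosure N Ω), add_zero]
  rw [h1]
  let s' : Set N := ((↑) : N → Ω) ⁻¹' s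
  haveI : Algebra.IsAlgebraic (Algebra.adjoin k s') N := by
    refine ⟨fun z => ?_⟩
    rw [IntermediateField.isAlgebraic_adjoin_iff.symm]
    have htop : IntermediateField.adjoin k s' = ⊤ := by
      refine IntermediateField.map_injective N.val ?_
      rw [IntermediateField.adjoin_map, ← AlgHom.fieldRange_eq_map, IntermediateField.fieldRange_val]
      refine congrArg (IntermediateField.adjoin k) ?_
      exact Set.image_preimage_eq_of_subset fun y hy => ⟨⟨y, IntermediateField.subset_adjoin k s hy⟩, rfl⟩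
    exact isAlgebraic_algebraMap (A := N) (⟨z, htop ▸ trivial⟩ : IntermediateField.adjoin k s')
  refine (Algebra.IsAlgebraic.trdeg_le_cardinalMk (R := k) (A := N) (s := s')).trans ?_
  refine le_trans (Cardinal.mk_le_of_injective (f := fun z : s' => (⟨z.1.1, z.2⟩ : s)) fun a a' h =>
    Subtype.ext (Subtype.ext (congrArg (fun w : ↥s => (w : Ω)) h))) ?_
  refine (Cardinal.mk_union_le _ _).trans (add_le_add ?_ ?_)
  · exact Cardinal.mk_image_le.trans hb.cardinalMk_eq_trdeg.le
  · exact Cardinal.mk_image_le.trans hb'.cardinalMk_eq_trdeg.le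

variable {G X : Over (Spec (CommRingCat.of k))} [GrpObj G] (aX : AlgGrp.Action G X)

/-- The key bound. -/
theorem edAt_le [LocallyOfFiniteType X.hom] [FibCat.IsFibGrpd (AlgSt.QuotSt Scheme.fppfPrecoverage G aX).p]
    [FibCat.IsFibGrpd (AlgSt.BG Scheme.fppfPrecoverage G).p] {L : Type u} [Field L] [Algebra k L]
    (A : StkCnt.pts (AlgSt.QuotSt Scheme.fppfPrecoverage G aX) L) :
    (EssDim.edAt (Gerb.isoClPsh (AlgSt.QuotSt Scheme.fppfPrecoverage G aX)) (Quot.mk _ A) : WithBot ℕ∞) ≤
      EssDim.edSt (AlgSt.BG Scheme.fppfPrecoverage G) + (topologicalKrullDim (X.left : Type u) : WithBot ℕ∞) := by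
  obtain ⟨⟨base, P, act, π, cart, loc, φ, eqv⟩, hb⟩ := A
  change base = rpt k L at hb
  subst hb
  let B : StkCnt.pts (AlgSt.BG Scheme.fppfPrecoverage G) L :=
    ⟨{ base := rpt k L, P := P, act := act, π := π, cart := cart, loc := loc, φ := toUnit P
       eqv := toUnit_unique _ _ }, rfl⟩
  let ξ : EssDim.FPt (Gerb.isoClPsh (AlgSt.BG Scheme.fppfPrecoverage G)) L := Quot.mk _ B
  haveI : Nonempty {K : IntermediateField k L // EssDim.Descends _ ξ K} := ⟨⟨⊤, EssDim.descends_top ξ⟩⟩
  obtain ⟨⟨K, hK⟩, hKeq⟩ := ciInf_mem fun K : {K : IntermediateField k L // EssDim.Descends _ ξ K} =>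
    Cardinal.toENat (Algebra.trdeg k K.1)
  have hed : (Cardinal.toENat (Algebra.trdeg k K) : WithBot ℕ∞) ≤ EssDim.edSt (AlgSt.BG Scheme.fppfPrecoverage G) :=
    le_of_eq_of_le (congrArg _ hKeq) (EssDim.edAt_le_ed ξ)
  obtain ⟨⟨⟨base₀, P₀, act₀, π₀, cart₀, loc₀, φ₀, eqv₀⟩, hb₀⟩, ψ, hψ⟩ := (EssDim.descends_isoCl_iff _ B K).1 hK
  change base₀ = rpt k K at hb₀
  subst hb₀
  have hψb : ψ.base = res (k := k) K L := by
    have := @IsHomLift.fac' _ _ _ _ (AlgSt.BG Scheme.fppfPrecoverage G).p _ _ _ _ (EssDim.resPt K.val) ψ hψ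
    exact this.trans (by simp; rfl)
  -- points
  let Ω : Type u := AlgebraicClosure L
  obtain ⟨E, _, _, _, _, hEfin, r, hr⟩ := exists_finite_point π₀ loc₀
  haveI := hEfin
  let jE : E →ₐ[K] Ω := IsAlgClosed.lift
  let rΩ : rpt k Ω ⟶ P₀ := rmap (jE.restrictScalars k) ≫ r
  have hsq : IsPullback ψ.top π π₀ (res (k := k) K L) := hψb ▸ ψ.cart
  let pΩ : rpt k Ω ⟶ P := hsq.lift rΩ (res L Ω) (by
    rw [Category.assoc, hr, rmap_comp, rmap_comp]
    refine rmap_congr fun c => ?_
    exact (jE.commutes c).trans (IsScalarTower.algebraMap_apply K L Ω c))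
  letI : X.left.Over (Spec (CommRingCat.of k)) := ⟨X.hom⟩
  haveI : LocallyOfFiniteType (X.left ↘ Spec (CommRingCat.of k)) := ‹LocallyOfFiniteType X.hom›
  obtain ⟨⟨x₀, ι₀⟩, hx₀⟩ := (Scheme.SpecToEquivOfField Ω X.left).symm.surjective (pΩ ≫ φ).left
  have hx₀' : Spec.map ι₀ ≫ X.left.fromSpecResidueField x₀ = (pΩ ≫ φ).left := hx₀
  letI := Curv2.resAlgebra k X.left x₀
  let ι' : X.left.residueField x₀ →ₐ[k] Ω :=
    { ι₀.hom with
      commutes' := fun c => by
        have h : Spec.map (CommRingCat.ofHom (Curv2.resMap k X.left x₀) ≫ ι₀) =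
            Spec.map (CommRingCat.ofHom (algebraMap k Ω)) := by
          rw [Spec.map_comp, Groth.L22.FibreDim.SpecMap_resMap, ← Category.assoc, hx₀']
          exact Over.w (pΩ ≫ φ)
        exact RingHom.congr_fun (congrArg CommRingCat.Hom.hom (Spec.map_injective h)) c }
  obtain ⟨n, hn, htr⟩ := Groth.L22.SchemeDim.exists_dim_closure_eq_trdeg k X.left x₀
  have hdim : (n : WithBot ℕ∞) ≤ topologicalKrullDim (X.left : Type u) :=
    hn ▸ Topology.IsInducing.subtypeVal.topologicalKrullDim_le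
  obtain ⟨M, hM, hKM, hxM, hMtr⟩ := exists_algClosed (IsScalarTower.toAlgHom k K Ω) ι'
  haveI := hM
  let K' : IntermediateField k L := M.comap (IsScalarTower.toAlgHom k L Ω)
  have hKK' : K ≤ K' := fun z hz => by
    show algebraMap L Ω z ∈ M
    exact hKM ⟨z, hz⟩
  letI : Algebra K' M :=
    (((algebraMap L Ω).comp (algebraMap K' L)).codRestrict M fun z => z.2).toAlgebra
  haveI : IsScalarTower k K' M := IsScalarTower.of_algebraMap_eq fun z => Subtype.ext
    (IsScalarTower.algebraMap_apply k L Ω z)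
  haveI : IsScalarTower K' M Ω := IsScalarTower.of_algebraMap_eq fun z =>
    IsScalarTower.algebraMap_apply K' L Ω z
  have hint : ∀ (l : L) (m : M), algebraMap L Ω l = algebraMap M Ω m → ∃ c : K', algebraMap K' L c = l :=
    fun l m h => ⟨⟨l, show algebraMap L Ω l ∈ M from h ▸ m.2⟩, rfl⟩
  -- the torsor over `K'`
  let inc : rpt k K' ⟶ rpt k K := rmap (IntermediateField.inclusion hKK')
  obtain ⟨⟨base₁, P₁, act₁, π₁, cart₁, loc₁, φ₁₀, eqv₁₀⟩, χ, hχ⟩ := FibCat.IsFibGrpd.exists_lift
    (p := (AlgSt.BG Scheme.fppfPrecoverage G).p)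
    (x := ⟨rpt k K, P₀, act₀, π₀, cart₀, loc₀, φ₀, eqv₀⟩) inc
  have hb₁ : base₁ = rpt k K' := @IsHomLift.domain_eq _ _ _ _ (AlgSt.BG Scheme.fppfPrecoverage G).p _ _ _ _ inc χ hχ
  subst hb₁
  have hχb : χ.base = inc := by
    have := @IsHomLift.fac' _ _ _ _ (AlgSt.BG Scheme.fppfPrecoverage G).p _ _ _ _ inc χ hχ
    exact this.trans (by simp)
  have sq₁ : IsPullback χ.top π₁ π₀ inc := hχb ▸ χ.cart
  have hres : res (k := k) K' L ≫ inc = res K L := by
    rw [rmap_comp]; exact rmap_congr fun c => rfl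
  let top₁ : P ⟶ P₁ := sq₁.lift ψ.top (π ≫ res K' L) (by rw [Category.assoc, hres]; exact hsq.w)
  have sqT : IsPullback top₁ π π₁ (res (k := k) K' L) :=
    IsPullback.of_right (by rw [sq₁.lift_fst, hres]; exact hsq) (sq₁.lift_snd _ _ _) sq₁
  have hπ : act.act ≫ π = snd G P ≫ π := cart.w
  have heqv : act.act ≫ top₁ = (G ◁ top₁) ≫ act₁.act := by
    apply sq₁.hom_ext
    · rw [Category.assoc, sq₁.lift_fst, Category.assoc, χ.eqv, ← MonoidalCategory.whiskerLeft_comp_assoc, sq₁.lift_fst]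
      exact ψ.eqv
    · rw [Category.assoc, sq₁.lift_snd, Category.assoc, cart₁.w, whiskerLeft_snd_assoc, sq₁.lift_snd, reassoc_of% hπ]
  have hjM : ∀ e : E, jE e ∈ M := by
    intro e
    refine mem_of_isIntegral M ?_
    obtain ⟨q, hq, hqe⟩ := (Algebra.IsIntegral.isIntegral (R := K) e)
    let κ : K →+* M := (algebraMap K Ω).codRestrict M fun z => hKM z
    refine ⟨q.map κ, hq.map κ, ?_⟩
    rw [Polynomial.eval₂_map]
    have := congrArg jE.toRingHom hqe
    have e2 : jE.toRingHom.comp (algebraMap K E) = algebraMap K Ω := jE.comp_algebraMap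
    rw [Polynomial.hom_eval₂, map_zero, e2] at this
    exact this
  let jM : E →ₐ[k] M := (jE.restrictScalars k).codRestrict M.toSubalgebra hjM
  let p : rpt k M ⟶ P₁ := sq₁.lift (rmap jM ≫ r) (res K' M) (by
    rw [Category.assoc, hr, rmap_comp, rmap_comp]
    exact rmap_congr fun c => Subtype.ext (jE.commutes c))
  have hpΩ : pΩ ≫ top₁ = res (k := k) M Ω ≫ p := by
    apply sq₁.hom_ext
    · rw [Category.assoc, sq₁.lift_fst, hsq.lift_fst, Category.assoc, sq₁.lift_fst, ← Category.assoc, rmap_comp]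
      rfl
    · rw [Category.assoc, sq₁.lift_snd, hsq.lift_snd_assoc, Category.assoc, sq₁.lift_snd, rmap_comp, rmap_comp]
      exact rmap_congr fun c => rfl
  let ιM : X.left.residueField x₀ →ₐ[k] M := ι'.codRestrict M.toSubalgebra hxM
  let x : rpt k M ⟶ X := Over.homMk (Spec.map (CommRingCat.ofHom (ιM : X.left.residueField x₀ →+* M)) ≫
      X.left.fromSpecResidueField x₀) (by
    show (Spec.map _ ≫ _) ≫ X.hom = Spec.map (CommRingCat.ofHom (algebraMap k M))
    rw [Category.assoc, show X.left.fromSpecResidueField x₀ ≫ X.hom =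
      Spec.map (CommRingCat.ofHom (Curv2.resMap k X.left x₀)) from (Groth.L22.FibreDim.SpecMap_resMap k X.left x₀).symm,
      ← Spec.map_comp, ← CommRingCat.ofHom_comp]
    exact congrArg (fun a => Spec.map (CommRingCat.ofHom a)) ιM.comp_algebraMap)
  have hx : pΩ ≫ φ = res (k := k) M Ω ≫ x := by
    apply Over.OverMorphism.ext
    show (pΩ ≫ φ).left = Spec.map _ ≫ Spec.map _ ≫ _
    rw [← hx₀', ← Category.assoc, ← Spec.map_comp]
    rfl
  obtain ⟨E₁, _, _, _, _, hE₁, r₁, hr₁⟩ := exists_finite_point π₁ loc₁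
  haveI := hE₁
  obtain ⟨φ₁, hφ₁, heqv₁⟩ := exists_equivariant_descend aX hint cart₁ r₁ hr₁ sqT heqv hπ φ eqv p
    (sq₁.lift_snd _ _ _) pΩ hpΩ (hsq.lift_snd _ _ _) x hx
  -- the descended object
  let A₁ : StkCnt.pts (AlgSt.QuotSt Scheme.fppfPrecoverage G aX) K' :=
    ⟨{ base := rpt k K', P := P₁, act := act₁, π := π₁, cart := cart₁, loc := loc₁, φ := φ₁, eqv := heqv₁ }, rfl⟩
  let A₀ : AlgSt.QuotObj Scheme.fppfPrecoverage G aX :=
    { base := rpt k L, P := P, act := act, π := π, cart := cart, loc := loc, φ := φ, eqv := eqv }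
  let m : A₀ ⟶ A₁.1 := { base := res K' L, top := top₁, eqv := heqv, cart := sqT, wφ := hφ₁ }
  have hdesc : EssDim.Descends (Gerb.isoClPsh (AlgSt.QuotSt Scheme.fppfPrecoverage G aX))
      (Quot.mk _ (⟨A₀, rfl⟩ : StkCnt.pts (AlgSt.QuotSt Scheme.fppfPrecoverage G aX) L)) K' :=
    (EssDim.descends_isoCl_iff _ _ K').2 ⟨A₁, m, IsHomLift.of_fac' _ _ _ rfl rfl (by simp; rfl)⟩
  refine (WithBot.coe_le_coe.2 (EssDim.edAt_le_of_descends hdesc)).trans ?_
  have hK'tr : Algebra.trdeg k K' ≤ Algebra.trdeg k M := by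
    let e : K' →ₐ[k] M := IsScalarTower.toAlgHom k K' M
    exact trdeg_le_of_injective e e.toRingHom.injective
  have h2 : Cardinal.toENat (Algebra.trdeg k K') ≤ Cardinal.toENat (Algebra.trdeg k K) + n := by
    rw [← Cardinal.toENat_nat, ← map_add, ← htr]
    exact OrderHomClass.mono _ (hK'tr.trans hMtr)
  refine (WithBot.coe_le_coe.2 h2).trans ?_
  rw [WithBot.coe_add]
  exact add_le_add hed hdim

theorem edSt_le [LocallyOfFiniteType X.hom] [FibCat.IsFibGrpd (AlgSt.QuotSt Scheme.fppfPrecoverage G aX).p]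
    [FibCat.IsFibGrpd (AlgSt.BG Scheme.fppfPrecoverage G).p] :
    EssDim.edSt (AlgSt.QuotSt Scheme.fppfPrecoverage G aX) ≤
      EssDim.edSt (AlgSt.BG Scheme.fppfPrecoverage G) + (topologicalKrullDim (X.left : Type u) : WithBot ℕ∞) := by
  refine iSup_le fun L => iSup_le fun _ => iSup_le fun _ => iSup_le fun ξ => ?_
  induction ξ using Quot.ind with
  | mk A => exact edAt_le aX A

end Groth.L11.EssQuot
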