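import Groth.Agent.L11.EssQuot.Field
import Mathlib.AlgebraicGeometry.AffineScheme
import Mathlib.AlgebraicGeometry.Sites.Fpqc

/-!
# Descent of morphisms from a finite scheme over a field to the intersection field
-/

set_option autoImplicit false
set_option linter.style.haveILetI false
set_option linter.unusedSectionVars false

noncomputable section

universe u

open CategoryTheory AlgebraicGeometry
open scoped TensorProduct

namespace Groth.L11.EssQuot

variable {K L M Ω : Type u} [Field K] [Field L] [Field M] [Field Ω] [Algebra K L] [Algebra K M] [Algebra K Ω]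
  [Algebra L Ω] [Algebra M Ω] [IsScalarTower K L Ω] [IsScalarTower K M Ω]
  (hint : ∀ (l : L) (m : M), algebraMap L Ω l = algebraMap M Ω m → ∃ c : K, algebraMap K L c = l)
  (E : Type u) [Field E] [Algebra K E] [FiniteDimensional K E] [IsAlgClosed M]

variable (K L) in
/-- The inclusion of the right factor. -/
abbrev inR : E →+* L ⊗[K] E := (Algebra.TensorProduct.includeRight : E →ₐ[K] L ⊗[K] E).toRingHom

include hint in
/-- A morphism defined over both fields is defined over the intersection. -/
theorem exists_descend {X : Scheme.{u}} (f : Spec (CommRingCat.of (L ⊗[K] E)) ⟶ X)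
    (g : Spec (CommRingCat.of (M ⊗[K] E)) ⟶ X)
    (hfg : Spec.map (CommRingCat.ofHom (scal L Ω E).toRingHom) ≫ f =
      Spec.map (CommRingCat.ofHom (scal M Ω E).toRingHom) ≫ g) :
    ∃ h : Spec (CommRingCat.of E) ⟶ X, Spec.map (CommRingCat.ofHom (inR K L E)) ≫ h = f := by
  haveI := subsingleton_primeSpectrum hint E
  haveI : Nontrivial (L ⊗[K] E) := (Algebra.TensorProduct.includeRight_injective (R := K) (A := L) (B := E)
    (RingHom.injective _)).nontrivial
  let z : PrimeSpectrum (L ⊗[K] E) := Classical.arbitrary _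
  obtain ⟨U, hU, hzU, -⟩ := exists_isAffineOpen_mem_and_subset (x := f z) (U := (⊤ : X.Opens)) trivial
  have hf : Set.range f ⊆ Set.range hU.fromSpec := by
    rw [hU.range_fromSpec]
    rintro _ ⟨w, rfl⟩
    rwa [Subsingleton.elim (α := PrimeSpectrum (L ⊗[K] E)) w z]
  have hg : Set.range g ⊆ Set.range hU.fromSpec := by
    rintro _ ⟨w, rfl⟩
    obtain ⟨(v : ↥(Spec (CommRingCat.of (Ω ⊗[K] E)))), hv⟩ := comap_scal_surjective (K := K) (M := M) (Ω := Ω) E w
    refine hf ⟨Spec.map (CommRingCat.ofHom (scal L Ω E).toRingHom) v, ?_⟩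
    refine ((Scheme.Hom.comp_apply _ _ v).symm.trans ?_).trans (congrArg g hv)
    exact (congrArg (fun (m : Spec (CommRingCat.of (Ω ⊗[K] E)) ⟶ X) => m v) hfg).trans (Scheme.Hom.comp_apply _ _ v)
  let α := Spec.preimage (IsOpenImmersion.lift hU.fromSpec f hf)
  let β := Spec.preimage (IsOpenImmersion.lift hU.fromSpec g hg)
  have hab : α ≫ CommRingCat.ofHom (scal L Ω E).toRingHom = β ≫ CommRingCat.ofHom (scal M Ω E).toRingHom := by
    refine Spec.map_injective ?_
    rw [Spec.map_comp, Spec.map_comp, Spec.map_preimage, Spec.map_preimage, ← cancel_mono hU.fromSpec, Category.assoc,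
      Category.assoc, IsOpenImmersion.lift_fac, IsOpenImmersion.lift_fac, hfg]
  have key : ∀ a, ∃ e : E, α.hom a = inR K L E e := fun a =>
    exists_eq_one_tmul hint E (α.hom a) (β.hom a) (ConcreteCategory.congr_hom hab a)
  choose γ hγ using key
  have hinj : Function.Injective (inR K L E) := RingHom.injective _
  let γ' : Γ(X, U) →+* E :=
    { toFun := γ
      map_one' := hinj (by rw [← hγ, map_one, map_one])
      map_mul' := fun a b => hinj (by rw [← hγ, map_mul, map_mul, ← hγ, ← hγ])
      map_zero' := hinj (by rw [← hγ, map_zero, map_zero])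
      map_add' := fun a b => hinj (by rw [← hγ, map_add, map_add, ← hγ, ← hγ]) }
  refine ⟨Spec.map (CommRingCat.ofHom γ') ≫ hU.fromSpec, ?_⟩
  have e : CommRingCat.ofHom γ' ≫ CommRingCat.ofHom (inR K L E) = α :=
    CommRingCat.hom_ext (RingHom.ext fun a => (hγ a).symm)
  rw [← Category.assoc, ← Spec.map_comp, e, Spec.map_preimage, IsOpenImmersion.lift_fac]

end Groth.L11.EssQuot
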